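import Mathlib

/-!
# The Hasse–Davenport lifting relation (helper991)

`K` a finite field, `L` a finite extension of degree `n`, `χ` a multiplicative and `ψ ≠ 1` an additive character of `K`
with values in a domain `R`:
`- ∑ x : L, χ (N x) * ψ (Tr x) = (- ∑ x : K, χ x * ψ x) ^ n` (`lift`).
-/

set_option autoImplicit false
set_option linter.unusedSectionVars false

namespace Cfsg.Agent.H991.HD

open Polynomial

section

variable {K : Type*} [Field K] {R : Type*} [CommRing R]

/-- the weight of a polynomial -/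
noncomputable def lam (χ : MulChar K R) (ψ : AddChar K R) (f : K[X]) : R :=
  χ ((-1) ^ f.natDegree * f.coeff 0) * ψ (-f.nextCoeff)

variable (χ : MulChar K R) (ψ : AddChar K R)

theorem lam_one : lam χ ψ 1 = 1 := by
  unfold lam
  rw [natDegree_one, pow_zero, one_mul, coeff_one_zero, map_one, one_mul, ← C_1, nextCoeff_C_eq_zero, neg_zero,
    AddChar.map_zero_eq_one]

theorem lam_mul {f g : K[X]} (hf : f.Monic) (hg : g.Monic) : lam χ ψ (f * g) = lam χ ψ f * lam χ ψ g := by
  unfold lam
  rw [hf.natDegree_mul hg, mul_coeff_zero, hf.nextCoeff_mul hg, neg_add, AddChar.map_add_eq_mul, pow_add]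
  have e : (-1 : K) ^ f.natDegree * (-1) ^ g.natDegree * (f.coeff 0 * g.coeff 0) =
      ((-1) ^ f.natDegree * f.coeff 0) * ((-1) ^ g.natDegree * g.coeff 0) := by ring
  rw [e, map_mul]
  ring

theorem lam_pow {f : K[X]} (hf : f.Monic) (n : ℕ) : lam χ ψ (f ^ n) = lam χ ψ f ^ n := by
  induction n with
  | zero => rw [pow_zero, pow_zero, lam_one]
  | succ n ih => rw [pow_succ, lam_mul χ ψ (hf.pow n) hf, ih, pow_succ]

variable (K) in
theorem finite_monic [Finite K] (n : ℕ) : {f : K[X] | f.Monic ∧ f.natDegree = n}.Finite := by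
  have h : Function.Injective (fun f : {f : K[X] | f.Monic ∧ f.natDegree = n} => fun i : Fin (n + 1) => f.1.coeff i) := by
    rintro ⟨f, hf, hfn⟩ ⟨g, hg, hgn⟩ h
    apply Subtype.ext
    ext i
    by_cases hi : i < n + 1
    · exact congrFun h ⟨i, hi⟩
    · show f.coeff i = g.coeff i
      rw [coeff_eq_zero_of_natDegree_lt (by omega), coeff_eq_zero_of_natDegree_lt (by omega)]
  exact Set.finite_coe_iff.1 (Finite.of_injective _ h)

variable [Finite K]

variable (K) in
/-- the monic polynomials of degree `n` -/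
noncomputable def Mn (n : ℕ) : Finset K[X] := (finite_monic K n).toFinset

theorem mem_Mn {n : ℕ} {f : K[X]} : f ∈ Mn K n ↔ f.Monic ∧ f.natDegree = n := by
  unfold Mn
  rw [Set.Finite.mem_toFinset]
  rfl

/-- the sum of the weights -/
noncomputable def an (n : ℕ) : R := ∑ f ∈ Mn K n, lam χ ψ f

theorem an_zero : an χ ψ 0 = 1 := by
  have h : Mn K 0 = {1} := by
    ext f
    rw [mem_Mn, Finset.mem_singleton]
    constructor
    · rintro ⟨h1, h2⟩
      exact eq_one_of_monic_natDegree_zero h1 h2
    · rintro rfl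
      exact ⟨monic_one, natDegree_one⟩
  unfold an
  rw [h, Finset.sum_singleton, lam_one]

theorem an_one [Fintype K] : an χ ψ 1 = ∑ x : K, χ x * ψ x := by
  unfold an
  symm
  refine Finset.sum_bij' (fun b _ => X - C b) (fun f _ => - f.coeff 0) ?_ ?_ ?_ ?_ ?_
  · intro b _
    exact mem_Mn.2 ⟨monic_X_sub_C b, natDegree_X_sub_C b⟩
  · intro f _
    exact Finset.mem_univ _
  · intro b _
    simp
  · intro f hf
    obtain ⟨h1, h2⟩ := mem_Mn.1 hf
    have h3 := eq_X_add_C_of_natDegree_le_one h2.le
    have h4 : f.coeff 1 = 1 := by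
      have : f.coeff f.natDegree = 1 := h1
      rwa [h2] at this
    rw [h4, C_1, one_mul] at h3
    rw [map_neg, sub_neg_eq_add]
    exact h3.symm
  · intro b _
    unfold lam
    rw [natDegree_X_sub_C, nextCoeff_X_sub_C]
    simp

theorem an_ge [IsDomain R] (hψ : ψ ≠ 1) {n : ℕ} (hn : 2 ≤ n) : an χ ψ n = 0 := by
  obtain ⟨c, hc⟩ : ∃ c, ψ c ≠ 1 := by
    by_contra h
    push Not at h
    exact hψ (by ext x; rw [h x]; rfl)
  have hdeg : ∀ (c : K) {f : K[X]}, f.Monic → f.natDegree = n → (C c * X ^ (n - 1)).degree < f.degree := by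
    intro c f hf hfn
    rw [degree_eq_natDegree hf.ne_zero, hfn]
    refine lt_of_le_of_lt (degree_C_mul_X_pow_le _ _) ?_
    exact_mod_cast (by omega : n - 1 < n)
  have hmem : ∀ (c : K) {f : K[X]}, f ∈ Mn K n → f + C c * X ^ (n - 1) ∈ Mn K n := by
    intro c f hf
    obtain ⟨h1, h2⟩ := mem_Mn.1 hf
    refine mem_Mn.2 ⟨h1.add_of_left (hdeg c h1 h2), ?_⟩
    rw [natDegree_add_eq_left_of_degree_lt (hdeg c h1 h2), h2]
  have key : an χ ψ n = ψ c * an χ ψ n := by
    have h1 : an χ ψ n = ∑ f ∈ Mn K n, lam χ ψ (f + C (-c) * X ^ (n - 1)) := by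
      unfold an
      refine Finset.sum_bij' (fun f _ => f + C c * X ^ (n - 1)) (fun f _ => f + C (-c) * X ^ (n - 1)) ?_ ?_ ?_ ?_ ?_
      · intro f hf; exact hmem c hf
      · intro f hf; exact hmem (-c) hf
      · intro f _; rw [map_neg]; ring
      · intro f _; rw [map_neg]; ring
      · intro f _
        congr 1
        rw [map_neg]; ring
    calc an χ ψ n = ∑ f ∈ Mn K n, lam χ ψ (f + C (-c) * X ^ (n - 1)) := h1
      _ = ∑ f ∈ Mn K n, ψ c * lam χ ψ f := by
        refine Finset.sum_congr rfl fun f hf => ?_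
        obtain ⟨h2, h3⟩ := mem_Mn.1 hf
        obtain ⟨-, h5⟩ := mem_Mn.1 (hmem (-c) hf)
        unfold lam
        have e1 : (f + C (-c) * X ^ (n - 1)).coeff 0 = f.coeff 0 := by
          rw [coeff_add, coeff_C_mul, coeff_X_pow, if_neg (by omega), mul_zero, add_zero]
        have e2 : (f + C (-c) * X ^ (n - 1)).nextCoeff = f.nextCoeff - c := by
          rw [nextCoeff_of_natDegree_pos (by omega), nextCoeff_of_natDegree_pos (by omega), h5, h3, coeff_add,
            coeff_C_mul, coeff_X_pow, if_pos rfl, mul_one, sub_eq_add_neg]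
        rw [h5, h3, e1, e2, neg_sub, sub_eq_add_neg, AddChar.map_add_eq_mul]
        ring
      _ = ψ c * an χ ψ n := by
        rw [← Finset.mul_sum]; rfl
  have h2 : (1 - ψ c) * an χ ψ n = 0 := by
    rw [sub_mul, one_mul, ← key, sub_self]
  rcases mul_eq_zero.1 h2 with h | h
  · exact absurd (sub_eq_zero.1 h).symm hc
  · exact h

/-! ### irreducible polynomials -/

variable (K) in
/-- the monic irreducible polynomials of degree at most `n` -/
noncomputable def In (n : ℕ) : Finset K[X] := by
  classical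
  exact ((Finset.range (n + 1)).biUnion (fun d => Mn K d)).filter (fun P => Irreducible P)

theorem mem_In {n : ℕ} {P : K[X]} : P ∈ In K n ↔ P.Monic ∧ Irreducible P ∧ P.natDegree ≤ n := by
  classical
  unfold In
  simp only [Finset.mem_filter, Finset.mem_biUnion]
  constructor
  · rintro ⟨⟨d, hd, h⟩, h2⟩
    obtain ⟨h3, h4⟩ := mem_Mn.1 h
    rw [Finset.mem_range] at hd
    exact ⟨h3, h2, by omega⟩
  · rintro ⟨h1, h2, h3⟩
    exact ⟨⟨P.natDegree, Finset.mem_range.2 (by omega), mem_Mn.2 ⟨h1, rfl⟩⟩, h2⟩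

open Classical in
/-- the degree as a sum over the prime powers dividing `f` -/
theorem natDegree_eq_sum {n : ℕ} {f : K[X]} (hf : f ∈ Mn K n) :
    n = ∑ P ∈ In K n, ∑ j ∈ Finset.Icc 1 n, if P ^ j ∣ f then P.natDegree else 0 := by
  obtain ⟨h1, h2⟩ := mem_Mn.1 hf
  have hf0 : f ≠ 0 := h1.ne_zero
  set s := UniqueFactorizationMonoid.normalizedFactors f with hs
  have hprod : s.prod = f := by
    rw [hs, UniqueFactorizationMonoid.prod_normalizedFactors_eq hf0, h1.normalize_eq_self]
  have hmon : ∀ P ∈ s, P.Monic := by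
    intro P hP
    have h3 := UniqueFactorizationMonoid.normalize_normalized_factor P hP
    have h4 : P ≠ 0 := (UniqueFactorizationMonoid.irreducible_of_normalized_factor P hP).ne_zero
    rw [← h3]
    exact monic_normalize h4
  have hdeg : n = (s.map natDegree).sum := by
    have h3 := natDegree_multiset_prod_of_monic s hmon
    rw [hprod, h2] at h3
    exact h3
  rw [Finset.sum_multiset_map_count] at hdeg
  have hsub : s.toFinset ⊆ In K n := by
    intro P hP
    rw [Multiset.mem_toFinset] at hP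
    refine mem_In.2 ⟨hmon P hP, UniqueFactorizationMonoid.irreducible_of_normalized_factor P hP, ?_⟩
    rw [← h2]
    exact natDegree_le_of_dvd (UniqueFactorizationMonoid.dvd_of_mem_normalizedFactors hP) hf0
  rw [Finset.sum_subset hsub (fun P _ hP => by
    rw [Multiset.mem_toFinset] at hP
    rw [Multiset.count_eq_zero_of_notMem hP, zero_smul])] at hdeg
  refine hdeg.trans (Finset.sum_congr rfl fun P hP => ?_)
  obtain ⟨k1, k2, k3⟩ := mem_In.1 hP
  have hcount : ∀ j, P ^ j ∣ f ↔ j ≤ Multiset.count P s := by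
    intro j
    rw [pow_dvd_iff_le_emultiplicity, UniqueFactorizationMonoid.emultiplicity_eq_count_normalizedFactors k2 hf0,
      k1.normalize_eq_self, Nat.cast_le]
  have hle : Multiset.count P s ≤ n := by
    have h3 : P ^ Multiset.count P s ∣ f := (hcount _).2 le_rfl
    have h4 := natDegree_le_of_dvd h3 hf0
    rw [k1.natDegree_pow, h2] at h4
    have h5 : 1 ≤ P.natDegree := k2.natDegree_pos
    nlinarith
  rw [← Finset.sum_filter, Finset.sum_const, smul_eq_mul]
  congr 1
  have h6 : (Finset.Icc 1 n).filter (fun j => P ^ j ∣ f) = Finset.Icc 1 (Multiset.count P s) := by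
    ext j
    rw [Finset.mem_filter, Finset.mem_Icc, Finset.mem_Icc, hcount]
    omega
  rw [h6, Nat.card_Icc, Nat.add_sub_cancel]

open Classical in
/-- the sum over the multiples of `g` -/
theorem sum_dvd {n : ℕ} {g : K[X]} (hg : g.Monic) : (∑ f ∈ Mn K n, if g ∣ f then lam χ ψ f else 0) =
    if g.natDegree ≤ n then lam χ ψ g * an χ ψ (n - g.natDegree) else 0 := by
  split_ifs with h
  · rw [← Finset.sum_filter]
    unfold an
    rw [Finset.mul_sum]
    symm
    refine Finset.sum_bij' (fun f _ => g * f) (fun f _ => f /ₘ g) ?_ ?_ ?_ ?_ ?_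
    · intro f hf
      obtain ⟨h1, h2⟩ := mem_Mn.1 hf
      rw [Finset.mem_filter, mem_Mn]
      refine ⟨⟨hg.mul h1, ?_⟩, dvd_mul_right _ _⟩
      rw [hg.natDegree_mul h1, h2]; omega
    · intro f hf
      rw [Finset.mem_filter, mem_Mn] at hf
      obtain ⟨⟨h1, h2⟩, k, rfl⟩ := hf
      have hk : k.Monic := hg.of_mul_monic_left h1
      rw [mul_divByMonic_cancel_left k hg, mem_Mn]
      rw [hg.natDegree_mul hk] at h2
      exact ⟨hk, by omega⟩
    · intro f hf
      exact mul_divByMonic_cancel_left f hg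
    · intro f hf
      rw [Finset.mem_filter, mem_Mn] at hf
      obtain ⟨⟨h1, h2⟩, k, rfl⟩ := hf
      rw [mul_divByMonic_cancel_left k hg]
    · intro f hf
      obtain ⟨h1, h2⟩ := mem_Mn.1 hf
      exact (lam_mul χ ψ hg h1).symm
  · refine Finset.sum_eq_zero fun f hf => ?_
    obtain ⟨h1, h2⟩ := mem_Mn.1 hf
    rw [if_neg]
    intro hd
    have := natDegree_le_of_dvd hd h1.ne_zero
    omega

open Classical in
/-- the sum over the prime powers of degree `k` -/
noncomputable def sn (N k : ℕ) : R :=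
  ∑ P ∈ In K N, if P.natDegree ∣ k then (P.natDegree : R) * lam χ ψ P ^ (k / P.natDegree) else 0

theorem sn_eq {N k : ℕ} (hk : 1 ≤ k) (hkN : k ≤ N) : sn χ ψ N k = sn χ ψ k k := by
  unfold sn
  symm
  refine Finset.sum_subset ?_ ?_
  · intro P hP
    obtain ⟨h1, h2, h3⟩ := mem_In.1 hP
    exact mem_In.2 ⟨h1, h2, by omega⟩
  · intro P hP hP'
    obtain ⟨h1, h2, h3⟩ := mem_In.1 hP
    rw [if_neg]
    intro hd
    exact hP' (mem_In.2 ⟨h1, h2, Nat.le_of_dvd (by omega) hd⟩)

open Classical in
/-- **the logarithmic derivative** -/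
theorem log_deriv (n : ℕ) : (n : R) * an χ ψ n =
    ∑ P ∈ In K n, ∑ j ∈ Finset.Icc 1 n, if j * P.natDegree ≤ n then
      (P.natDegree : R) * (lam χ ψ P ^ j * an χ ψ (n - j * P.natDegree)) else 0 := by
  calc (n : R) * an χ ψ n = ∑ f ∈ Mn K n, (n : R) * lam χ ψ f := by unfold an; rw [Finset.mul_sum]
    _ = ∑ f ∈ Mn K n, ∑ P ∈ In K n, ∑ j ∈ Finset.Icc 1 n, (P.natDegree : R) * (if P ^ j ∣ f then lam χ ψ f else 0) := by
      refine Finset.sum_congr rfl fun f hf => ?_
      have h1 := congrArg (Nat.cast : ℕ → R) (natDegree_eq_sum hf)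
      rw [h1]
      push_cast
      rw [Finset.sum_mul]
      refine Finset.sum_congr rfl fun P _ => ?_
      rw [Finset.sum_mul]
      refine Finset.sum_congr rfl fun j _ => ?_
      split_ifs <;> simp
    _ = ∑ P ∈ In K n, ∑ j ∈ Finset.Icc 1 n, (P.natDegree : R) * ∑ f ∈ Mn K n, (if P ^ j ∣ f then lam χ ψ f else 0) := by
      rw [Finset.sum_comm]
      refine Finset.sum_congr rfl fun P _ => ?_
      rw [Finset.sum_comm]
      refine Finset.sum_congr rfl fun j _ => ?_
      rw [Finset.mul_sum]
    _ = _ := by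
      refine Finset.sum_congr rfl fun P hP => Finset.sum_congr rfl fun j _ => ?_
      obtain ⟨h1, h2, h3⟩ := mem_In.1 hP
      rw [sum_dvd χ ψ (h1.pow j), h1.natDegree_pow, lam_pow χ ψ h1]
      split_ifs
      · rfl
      · rw [mul_zero]

theorem sn_one : sn χ ψ 1 1 = an χ ψ 1 := by
  classical
  have h := log_deriv χ ψ 1
  rw [Nat.cast_one, one_mul] at h
  rw [h]
  unfold sn
  refine Finset.sum_congr rfl fun P hP => ?_
  obtain ⟨h1, h2, h3⟩ := mem_In.1 hP
  have h4 : P.natDegree = 1 := le_antisymm h3 h2.natDegree_pos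
  rw [h4]
  simp [an_zero]

theorem sn_succ [IsDomain R] (hψ : ψ ≠ 1) {n : ℕ} (hn : 1 ≤ n) : sn χ ψ (n + 1) (n + 1) = -(an χ ψ 1 * sn χ ψ n n) := by
  classical
  have h := log_deriv χ ψ (n + 1)
  rw [an_ge χ ψ hψ (by omega), mul_zero] at h
  have h1 : sn χ ψ (n + 1) (n + 1) + an χ ψ 1 * sn χ ψ (n + 1) n = 0 := by
    rw [h]
    unfold sn
    rw [Finset.mul_sum, ← Finset.sum_add_distrib]
    refine Finset.sum_congr rfl fun P hP => ?_
    obtain ⟨k1, k2, k3⟩ := mem_In.1 hP
    have hd : 1 ≤ P.natDegree := k2.natDegree_pos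
    -- only `j * d = n + 1` and `j * d = n` contribute
    have key : ∀ j ∈ Finset.Icc 1 (n + 1), (if j * P.natDegree ≤ n + 1 then
        (P.natDegree : R) * (lam χ ψ P ^ j * an χ ψ (n + 1 - j * P.natDegree)) else 0) =
        (if j * P.natDegree = n + 1 then (P.natDegree : R) * lam χ ψ P ^ j else 0) +
        (if j * P.natDegree = n then an χ ψ 1 * ((P.natDegree : R) * lam χ ψ P ^ j) else 0) := by
      intro j _
      by_cases h1 : j * P.natDegree = n + 1
      · rw [if_pos h1.le, if_pos h1, if_neg (by omega), h1, Nat.sub_self, an_zero, mul_one, add_zero]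
      · by_cases h2 : j * P.natDegree = n
        · rw [if_pos (by omega), if_neg h1, if_pos h2, h2, Nat.add_sub_cancel_left]
          ring
        · rw [if_neg h1, if_neg h2, add_zero]
          split_ifs with h3
          · rw [an_ge χ ψ hψ (by omega), mul_zero, mul_zero]
          · rfl
    rw [Finset.sum_congr rfl key, Finset.sum_add_distrib]
    have hsum : ∀ (m : ℕ) (c : ℕ → R), 1 ≤ m → m ≤ n + 1 →
        (∑ j ∈ Finset.Icc 1 (n + 1), if j * P.natDegree = m then c j else 0) =
        if P.natDegree ∣ m then c (m / P.natDegree) else 0 := by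
      intro m c hm hmn
      split_ifs with hdm
      · rw [Finset.sum_eq_single (m / P.natDegree)]
        · rw [if_pos (Nat.div_mul_cancel hdm)]
        · intro j _ hj
          rw [if_neg]
          rintro rfl
          exact hj (Nat.mul_div_cancel j hd).symm
        · intro hj
          exfalso
          apply hj
          rw [Finset.mem_Icc]
          refine ⟨Nat.div_pos (Nat.le_of_dvd (by omega) hdm) hd, (Nat.div_le_self _ _).trans hmn⟩
      · refine Finset.sum_eq_zero fun j _ => ?_
        rw [if_neg]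
        rintro rfl
        exact hdm (Dvd.intro_left j rfl)
    rw [hsum (n + 1) (fun j => (P.natDegree : R) * lam χ ψ P ^ j) (by omega) le_rfl,
      hsum n (fun j => an χ ψ 1 * ((P.natDegree : R) * lam χ ψ P ^ j)) hn (by omega)]
    congr 1
    split_ifs
    · rfl
    · rw [mul_zero]
  rw [sn_eq χ ψ hn (by omega)] at h1
  exact eq_neg_of_add_eq_zero_left h1

theorem neg_sn [IsDomain R] (hψ : ψ ≠ 1) {n : ℕ} (hn : 1 ≤ n) : - sn χ ψ n n = (- an χ ψ 1) ^ n := by
  induction n, hn using Nat.le_induction with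
  | base => rw [sn_one, pow_one]
  | succ n hn ih =>
    rw [sn_succ χ ψ hψ hn, pow_succ, ← ih]
    ring

end

/-! ### the extension field -/

section ext

variable {K : Type*} [Field K] {R : Type*} [CommRing R] (χ : MulChar K R) (ψ : AddChar K R)
variable {L : Type*} [Field L] [Algebra K L]

open IntermediateField in
theorem lam_minpoly [FiniteDimensional K L] (x : L) : (minpoly K x).natDegree ∣ Module.finrank K L ∧
    χ (Algebra.norm K x) * ψ (Algebra.trace K L x) =
      lam χ ψ (minpoly K x) ^ (Module.finrank K L / (minpoly K x).natDegree) := by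
  have hint : IsIntegral K x := Algebra.IsIntegral.isIntegral x
  have h1 : Module.finrank K K⟮x⟯ = (minpoly K x).natDegree := adjoin.finrank hint
  have h2 := Module.finrank_mul_finrank K K⟮x⟯ L
  rw [h1] at h2
  have hd : 0 < (minpoly K x).natDegree := minpoly.natDegree_pos hint
  refine ⟨⟨_, h2.symm⟩, ?_⟩
  have h3 : Module.finrank K L / (minpoly K x).natDegree = Module.finrank K⟮x⟯ L := by
    rw [← h2, Nat.mul_div_cancel_left _ hd]
  rw [h3, Algebra.norm_eq_norm_adjoin, trace_eq_trace_adjoin]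
  have h4 : Algebra.norm K (AdjoinSimple.gen K x) = (-1) ^ (minpoly K x).natDegree * (minpoly K x).coeff 0 := by
    have h5 := Algebra.PowerBasis.norm_gen_eq_coeff_zero_minpoly (adjoin.powerBasis hint)
    rw [adjoin.powerBasis_gen, adjoin.powerBasis_dim, minpoly_gen] at h5
    exact h5
  have h5 : Algebra.trace K K⟮x⟯ (AdjoinSimple.gen K x) = - (minpoly K x).nextCoeff := by
    have h6 := PowerBasis.trace_gen_eq_nextCoeff_minpoly (adjoin.powerBasis hint)
    rw [adjoin.powerBasis_gen, minpoly_gen] at h6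
    exact h6
  rw [h4, h5, map_pow]
  unfold lam
  rw [mul_pow]
  congr 1
  generalize Module.finrank K⟮x⟯ L = m
  induction m with
  | zero => simp
  | succ m ih => rw [add_smul, one_smul, AddChar.map_add_eq_mul, ih, pow_succ]

variable [Fintype K] [Fintype L]

/-- the number of roots -/
theorem card_roots {P : K[X]} (hP : P.Monic) (hirr : Irreducible P) (hd : P.natDegree ∣ Module.finrank K L) :
    Nat.card {x : L | minpoly K x = P} = P.natDegree := by
  have := Fact.mk hirr
  have h1 : Module.finrank K (AdjoinRoot P) = P.natDegree := by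
    rw [(AdjoinRoot.powerBasis hirr.ne_zero).finrank, AdjoinRoot.powerBasis_dim]
  have h2 := FiniteField.natCard_algHom_of_finrank_dvd (F := K) (K := AdjoinRoot P) (L := L) (by rw [h1]; exact hd)
  rw [h1] at h2
  rw [← h2]
  refine Nat.card_congr (Equiv.symm ((AdjoinRoot.equiv L K P hirr.ne_zero).trans (Equiv.subtypeEquivRight fun x => ?_)))
  rw [mem_aroots]
  constructor
  · rintro ⟨-, h⟩
    exact (minpoly.eq_of_irreducible_of_monic hirr h hP).symm
  · intro h
    refine ⟨hirr.ne_zero, ?_⟩
    have h3 : minpoly K x = P := h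
    rw [← h3]
    exact minpoly.aeval K x

/-- the sum over the extension field -/
theorem sum_ext : (∑ x : L, χ (Algebra.norm K x) * ψ (Algebra.trace K L x)) =
    sn χ ψ (Module.finrank K L) (Module.finrank K L) := by
  classical
  have : FiniteDimensional K L := Module.Finite.of_finite
  have hmaps : ∀ x ∈ (Finset.univ : Finset L), minpoly K x ∈ In K (Module.finrank K L) := by
    intro x _
    have hint : IsIntegral K x := Algebra.IsIntegral.isIntegral x
    refine mem_In.2 ⟨minpoly.monic hint, minpoly.irreducible hint, ?_⟩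
    exact Nat.le_of_dvd Module.finrank_pos (lam_minpoly χ ψ x).1
  rw [← Finset.sum_fiberwise_of_maps_to hmaps]
  unfold sn
  refine Finset.sum_congr rfl fun P hP => ?_
  obtain ⟨h1, h2, h3⟩ := mem_In.1 hP
  split_ifs with hd
  · have hcard : (Finset.univ.filter (fun x : L => minpoly K x = P)).card = P.natDegree := by
      rw [← card_roots (L := L) h1 h2 hd, Nat.card_eq_fintype_card, Fintype.card_subtype]
      rfl
    rw [← hcard, ← nsmul_eq_mul, ← Finset.sum_const]
    refine Finset.sum_congr rfl fun x hx => ?_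
    rw [Finset.mem_filter] at hx
    rw [(lam_minpoly χ ψ x).2, hx.2, hcard]
  · refine Finset.sum_eq_zero fun x hx => ?_
    rw [Finset.mem_filter] at hx
    exfalso
    apply hd
    rw [← hx.2]
    exact (lam_minpoly χ ψ x).1

/-- **Hasse–Davenport, lifting.** -/
theorem lift [IsDomain R] (hψ : ψ ≠ 1) :
    - (∑ x : L, χ (Algebra.norm K x) * ψ (Algebra.trace K L x)) = (- ∑ x : K, χ x * ψ x) ^ Module.finrank K L := by
  have : FiniteDimensional K L := Module.Finite.of_finite
  rw [sum_ext, neg_sn χ ψ hψ Module.finrank_pos, an_one]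

end ext

end Cfsg.Agent.H991.HD
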